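/-
The Levi subgroup of a pair of complementary totally singular subspaces in a unitary space.
-/
import Cfsg.Agent.Lib.MaxSub.PairMaximalSU
import Cfsg.Agent.Lib.UnitaryBasic

set_option autoImplicit false
set_option linter.unusedSectionVars false

namespace CfsgLib.PairElusive

open Matrix Module CfsgLib.UnitaryTransvection CfsgLib.MaxSub.PairSU

universe u

variable {F : Type u} [Field F] [Fintype F] {n q d : ℕ} (hF : Fintype.card F = q ^ 2)

local notation "h" => Cfsg.hermForm n F q
local notation "σ" => frob hF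
local notation "V" => Fin n → F

/-- The conjugate inverse transpose. -/
noncomputable def starInv : GL (Fin d) F →* Matrix (Fin d) (Fin d) F where
  toFun A := (((A⁻¹ : GL (Fin d) F) : Matrix (Fin d) (Fin d) F).map σ)ᵀ
  map_one' := by simp
  map_mul' A B := by rw [_root_.mul_inv_rev, Units.val_mul, Matrix.map_mul, Matrix.transpose_mul]

/-- The block diagonal matrix of an element of the first factor. -/
noncomputable def blocks : GL (Fin d) F →* Matrix (Fin d ⊕ Fin d) (Fin d ⊕ Fin d) F where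
  toFun A := Matrix.fromBlocks (A : Matrix (Fin d) (Fin d) F) 0 0 (starInv hF A)
  map_one' := by rw [Units.val_one, map_one, Matrix.fromBlocks_one]
  map_mul' A B := by rw [Units.val_mul, map_mul, Matrix.fromBlocks_multiply]; simp

theorem pair_of_decomposition {D : Fin 2 → Submodule F V} (hD : Cfsg.Geo.IsMDecomposition d D) (hn : n = 2 * d)
    (hts : ∀ i, Cfsg.Geo.IsTotallySingularFor (Cfsg.hermForm n F q) (D i)) : Pair q d (D 0) (D 1) := by
  have h1 : Disjoint (D 0) (D 1) := hD.indep.pairwiseDisjoint (by decide)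
  refine ⟨hD.finrank_eq 0, hD.finrank_eq 1, ⟨h1, codisjoint_iff.2 (Submodule.eq_top_of_finrank_eq ?_)⟩, hts 0, hts 1⟩
  have h2 := Submodule.finrank_sup_add_finrank_inf_eq (D 0) (D 1)
  rw [h1.eq_bot, finrank_bot, hD.finrank_eq 0, hD.finrank_eq 1] at h2
  rw [Module.finrank_fin_fun]; omega

include hF in
theorem exists_dual_basis {D E : Submodule F V} (P : Pair q d D E) :
    ∃ C : Basis (Fin d ⊕ Fin d) F V, (∀ i, C (Sum.inl i) ∈ D ∧ C (Sum.inr i) ∈ E) ∧
      ∀ a b, h (C a) (C b) = (Matrix.fromBlocks 0 1 1 0 : Matrix (Fin d ⊕ Fin d) (Fin d ⊕ Fin d) F) a b := by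
  classical
  let b := Module.finBasisOfFinrankEq F D P.finD
  have hdual : ∀ i, ∃ f ∈ E, ∀ l, h (b l : V) f = if l = i then 1 else 0 := fun i => by
    obtain ⟨f, hf, h1, h0⟩ := P.exists_in (hF := hF)
      (U := Submodule.span F ((fun l => ((b l : D) : V)) '' {l | l ≠ i}))
      (Submodule.span_le.2 (by rintro _ ⟨l, -, rfl⟩; exact (b l).2)) (b i).2 (fun hh => by
        have hli := (b.linearIndependent.map' D.subtype (Submodule.ker_subtype D))
        exact hli.notMem_span_image (s := {l | l ≠ i}) (by simp) hh)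
    refine ⟨f, hf, fun l => ?_⟩
    split_ifs with hl
    · rw [hl]; exact h1
    · exact h0 _ (Submodule.subset_span ⟨l, hl, rfl⟩)
  choose f hf hfd using hdual
  have hind : LinearIndependent F fun i => (⟨f i, hf i⟩ : E) := by
    rw [Fintype.linearIndependent_iff]
    intro c hc i
    let L : V →+ F := AddMonoidHom.mk' (fun w => h (b i : V) w) (fun a a' => h_add_right hF _ a a')
    have h0 : L (∑ j, c j • f j) = 0 := by
      rw [show (∑ j, c j • f j) = ((∑ j, c j • (⟨f j, hf j⟩ : E) : E) : V) by simp, hc, Submodule.coe_zero, map_zero]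
    rw [map_sum, Finset.sum_eq_single i (fun j _ hj => by
      show h (b i : V) (c j • f j) = 0
      rw [h_smul_right hF, hfd, if_neg (Ne.symm hj), mul_zero]) (fun hi => absurd (Finset.mem_univ _) hi)] at h0
    change h (b i : V) (c i • f i) = 0 at h0
    rw [h_smul_right hF, hfd, if_pos rfl, mul_one] at h0
    exact (map_eq_zero (σ)).mp h0
  let bE : Basis (Fin d) F E := basisOfLinearIndependentOfCardEqFinrank' _ hind (by rw [Fintype.card_fin, P.finE])
  let C : Basis (Fin d ⊕ Fin d) F V := (b.prod bE).map (Submodule.prodEquivOfIsCompl D E P.compl)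
  have hl : ∀ i, C (Sum.inl i) = (b i : V) := fun i => by simp [C]
  have hr : ∀ i, C (Sum.inr i) = f i := fun i => by simp [C, bE]
  refine ⟨C, fun i => ⟨by rw [hl]; exact (b i).2, by rw [hr]; exact hf i⟩, ?_⟩
  rintro (i | i) (j | j)
  · rw [hl, hl, P.tsD _ (b i).2 _ (b j).2]; rfl
  · rw [hl, hr, hfd]; simp [Matrix.one_apply]
  · rw [hr, hl, ← h_swap hF, hfd]
    simp [Matrix.one_apply, apply_ite (frob hF), eq_comm]
  · rw [hr, hr, P.tsE _ (hf i) _ (hf j)]; rfl

variable (C : Module.Basis (Fin d ⊕ Fin d) F (Fin n → F))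

/-- The Levi embedding. -/
noncomputable def lev : GL (Fin d) F →* GL (Fin n) F :=
  (Units.map (((LinearMap.toMatrixAlgEquiv' (R := F) (n := Fin n)).toAlgHom.comp
    (Matrix.toLinAlgEquiv C).toAlgHom).toMonoidHom.comp (blocks hF))).comp toUnits.toMonoidHom

theorem lev_mulVec (A : GL (Fin d) F) (v : V) :
    (lev hF C A : Matrix (Fin n) (Fin n) F) *ᵥ v = Matrix.toLin C C (blocks hF A) v := by
  show LinearMap.toMatrix' (Matrix.toLin C C (blocks hF A)) *ᵥ v = _
  rw [LinearMap.toMatrix'_mulVec]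

theorem lev_charpoly (A : GL (Fin d) F) :
    (lev hF C A : Matrix (Fin n) (Fin n) F).charpoly = (A : Matrix (Fin d) (Fin d) F).charpoly * (starInv hF A).charpoly := by
  have h1 : (lev hF C A : Matrix (Fin n) (Fin n) F) = LinearMap.toMatrix' (Matrix.toLin C C (blocks hF A)) := rfl
  rw [h1, ← LinearMap.toMatrix_eq_toMatrix', LinearMap.charpoly_toMatrix, ← LinearMap.charpoly_toMatrix _ C,
    LinearMap.toMatrix_toLin]
  show (Matrix.fromBlocks (A : Matrix (Fin d) (Fin d) F) 0 0 (starInv hF A)).charpoly = _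
  rw [Matrix.charpoly_fromBlocks_zero₁₂]

theorem lev_injective : Function.Injective (lev hF C) := fun A B hAB => by
  have h1 : blocks hF A = blocks hF B :=
    (Matrix.toLinAlgEquiv C).injective ((LinearMap.toMatrixAlgEquiv' (R := F) (n := Fin n)).injective (congrArg Units.val hAB))
  exact Units.ext (Matrix.fromBlocks_inj.mp h1).1

theorem lev_mem_stab {D : Fin 2 → Submodule F V} (hD : Cfsg.Geo.IsMDecomposition d D)
    (hC : ∀ i, C (Sum.inl i) ∈ D 0 ∧ C (Sum.inr i) ∈ D 1) (A : GL (Fin d) F) :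
    lev hF C A ∈ Cfsg.Geo.decompositionStabilizer D := by
  classical
  have hinj : Function.Injective (Matrix.toLin' (lev hF C A : Matrix (Fin n) (Fin n) F)) :=
    Matrix.mulVec_injective_iff_isUnit.2 (lev hF C A).isUnit
  have hspan : ∀ (i : Fin 2) (g : Fin d → Fin d ⊕ Fin d), Function.Injective g → (∀ j, C (g j) ∈ D i) →
      D i = Submodule.span F (Set.range fun j => C (g j)) := fun i g hg hmem => by
    refine (Submodule.eq_of_le_of_finrank_eq (Submodule.span_le.mpr (by rintro _ ⟨j, rfl⟩; exact hmem j)) ?_).symm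
    rw [finrank_span_eq_card (b := fun j => C (g j)) (C.linearIndependent.comp g hg), Fintype.card_fin, hD.finrank_eq]
  refine ⟨1, fun i => Submodule.eq_of_le_of_finrank_eq ?_ ?_⟩
  · have key : ∀ (i : Fin 2) (g : Fin d → Fin d ⊕ Fin d), Function.Injective g → (∀ j, C (g j) ∈ D i) →
        (∀ j, Matrix.toLin C C (blocks hF A) (C (g j)) ∈ D i) →
        (D i).map (Matrix.toLin' (lev hF C A : Matrix (Fin n) (Fin n) F)) ≤ D i := fun i g hg hmem hT => by
      rw [Submodule.map_le_iff_le_comap]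
      conv_lhs => rw [hspan i g hg hmem]
      rw [Submodule.span_le]
      rintro _ ⟨j, rfl⟩
      show Matrix.toLin' (lev hF C A : Matrix (Fin n) (Fin n) F) (C (g j)) ∈ D i
      rw [Matrix.toLin'_apply, lev_mulVec]
      exact hT j
    fin_cases i
    · refine key 0 Sum.inl Sum.inl_injective (fun j => (hC j).1) fun j => ?_
      rw [Matrix.toLin_self]
      simp only [Fintype.sum_sum_type]
      refine add_mem (sum_mem fun k _ => Submodule.smul_mem _ _ (hC k).1) (sum_mem fun k _ => ?_)
      simp [blocks]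
    · refine key 1 Sum.inr Sum.inr_injective (fun j => (hC j).2) fun j => ?_
      rw [Matrix.toLin_self]
      simp only [Fintype.sum_sum_type]
      refine add_mem (sum_mem fun k _ => ?_) (sum_mem fun k _ => Submodule.smul_mem _ _ (hC k).2)
      simp [blocks]
  · rw [← LinearEquiv.finrank_eq (Submodule.equivMapOfInjective _ hinj (D i))]
    rfl

include hF in
theorem herm_repr (G : Matrix (Fin d ⊕ Fin d) (Fin d ⊕ Fin d) F) (hG : ∀ a b, h (C a) (C b) = G a b) (x y : V) :
    h x y = C.repr x ⬝ᵥ (G *ᵥ fun b => σ (C.repr y b)) := by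
  let L : V → (V →ₗ[F] F) := fun z =>
    { toFun := fun w => h w z
      map_add' := fun a a' => h_add_left _ _ _
      map_smul' := fun c a => h_smul_left _ _ _ }
  have hleft : ∀ z, h x z = ∑ a, C.repr x a * h (C a) z := fun z => by
    show L z x = _
    conv_lhs => rw [← C.sum_repr x]
    rw [map_sum]
    exact Finset.sum_congr rfl fun a _ => by rw [map_smul, smul_eq_mul]; rfl
  have hright : ∀ a, h (C a) y = ∑ b, σ (C.repr y b) * G a b := fun a => by
    rw [← h_swap hF]
    show σ (L (C a) y) = _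
    conv_lhs => rw [← C.sum_repr y]
    rw [map_sum, map_sum]
    exact Finset.sum_congr rfl fun b _ => by
      rw [map_smul, smul_eq_mul, map_mul]
      show σ (C.repr y b) * σ (h (C b) (C a)) = _
      rw [h_swap hF, hG]
  rw [hleft]
  simp only [hright, dotProduct, Matrix.mulVec, mul_comm (σ _)]

theorem lev_mem_GU (hC : ∀ a b, h (C a) (C b) = (Matrix.fromBlocks 0 1 1 0 : Matrix (Fin d ⊕ Fin d) (Fin d ⊕ Fin d) F) a b)
    (A : GL (Fin d) F) : lev hF C A ∈ Cfsg.GU n F q := fun u v => by
  show h ((lev hF C A : Matrix (Fin n) (Fin n) F) *ᵥ u) ((lev hF C A : Matrix (Fin n) (Fin n) F) *ᵥ v) = h u v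
  rw [lev_mulVec, lev_mulVec, herm_repr hF C _ hC, herm_repr hF C _ hC u v]
  have hrep : ∀ w, ⇑(C.repr (Matrix.toLin C C (blocks hF A) w)) = blocks hF A *ᵥ ⇑(C.repr w) := fun w => by
    rw [← LinearMap.toMatrix_mulVec_repr C C, LinearMap.toMatrix_toLin]
  have hσ : (fun b => σ ((blocks hF A *ᵥ ⇑(C.repr v)) b)) = (blocks hF A).map σ *ᵥ fun b => σ (C.repr v b) :=
    funext fun b => RingHom.map_mulVec σ _ _ b
  rw [hrep, hrep, hσ, Matrix.mulVec_mulVec, ← Matrix.vecMul_transpose, ← Matrix.dotProduct_mulVec, Matrix.mulVec_mulVec]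
  congr 2
  show (Matrix.fromBlocks (A : Matrix (Fin d) (Fin d) F) 0 0 (starInv hF A))ᵀ *
    ((Matrix.fromBlocks 0 1 1 0 : Matrix (Fin d ⊕ Fin d) (Fin d ⊕ Fin d) F) *
      (Matrix.fromBlocks (A : Matrix (Fin d) (Fin d) F) 0 0 (starInv hF A)).map σ) = _
  rw [Matrix.fromBlocks_map, Matrix.fromBlocks_transpose, Matrix.fromBlocks_multiply, Matrix.fromBlocks_multiply]
  have h1 : (starInv hF A).map σ = ((A⁻¹ : GL (Fin d) F) : Matrix (Fin d) (Fin d) F)ᵀ := by
    ext i j
    simp [starInv, frob_frob hF]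
  have h2 : ((A⁻¹ : GL (Fin d) F) : Matrix (Fin d) (Fin d) F).map σ * (A : Matrix (Fin d) (Fin d) F).map σ = 1 := by
    rw [← Matrix.map_mul, ← Units.val_mul, inv_mul_cancel, Units.val_one, Matrix.map_one σ (map_zero _) (map_one _)]
  have h3 : (A : Matrix (Fin d) (Fin d) F)ᵀ * ((A⁻¹ : GL (Fin d) F) : Matrix (Fin d) (Fin d) F)ᵀ = 1 := by
    rw [← Matrix.transpose_mul, ← Units.val_mul, inv_mul_cancel, Units.val_one, Matrix.transpose_one]
  have h4 : (starInv hF A)ᵀ = ((A⁻¹ : GL (Fin d) F) : Matrix (Fin d) (Fin d) F).map σ := Matrix.transpose_transpose _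
  congr 1
  all_goals simp only [Matrix.map_zero σ (map_zero _), Matrix.transpose_zero, zero_mul, mul_zero, one_mul,
    add_zero, zero_add, h1, h2, h3, h4]

end CfsgLib.PairElusive
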