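/-
Eigenvalue defects of elements stabilising a pair of complementary totally singular subspaces.
-/
import Cfsg.Agent.Lib.PairElusive.Levi
import Cfsg.Agent.Lib.TensorElusive.Neg

set_option autoImplicit false
set_option linter.unusedSectionVars false

namespace CfsgLib.PairElusive

open Matrix Module CfsgLib.UnitaryTransvection CfsgLib.MaxSub.PairSU

universe u

variable {F : Type u} [Field F] [Fintype F] {n q d : ℕ} (hF : Fintype.card F = q ^ 2)

local notation "h" => Cfsg.hermForm n F q
local notation "σ" => frob hF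

include hF in
theorem annihilator_le {D E : Submodule F (Fin n → F)} (P : Pair q d D E) {U W : Submodule F (Fin n → F)}
    (hU : U ≤ D) (hW : W ≤ E) (horth : ∀ w ∈ W, ∀ u ∈ U, h w u = 0) : finrank F W + finrank F U ≤ d := by
  classical
  let b := Module.finBasis F U
  let L : E →ₗ[F] (Fin (finrank F U) → F) :=
    { toFun := fun w l => h (w : Fin n → F) (b l : Fin n → F)
      map_add' := fun _ _ => funext fun _ => h_add_left _ _ _
      map_smul' := fun _ _ => funext fun _ => h_smul_left _ _ _ }
  have hsurj : LinearMap.range L = ⊤ := by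
    rw [eq_top_iff, ← (Pi.basisFun F (Fin (finrank F U))).span_eq, Submodule.span_le]
    rintro _ ⟨l, rfl⟩
    obtain ⟨f, hf, h1, h0⟩ := P.exists_in (hF := hF)
      (U := Submodule.span F ((fun l' => ((b l' : U) : Fin n → F)) '' {l' | l' ≠ l}))
      (Submodule.span_le.2 (by rintro _ ⟨l', -, rfl⟩; exact hU (b l').2)) (hU (b l).2) (fun hh => by
        have hli := (b.linearIndependent.map' U.subtype (Submodule.ker_subtype U))
        exact hli.notMem_span_image (s := {l' | l' ≠ l}) (by simp) hh)
    refine ⟨⟨f, hf⟩, funext fun l' => ?_⟩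
    show h f (b l' : Fin n → F) = _
    rw [← h_swap hF, Pi.basisFun_apply, Pi.single_apply]
    split_ifs with hl
    · rw [hl, h1, map_one]
    · rw [h0 _ (Submodule.subset_span ⟨l', hl, rfl⟩), map_zero]
  have h1 := LinearMap.finrank_range_add_finrank_ker L
  rw [hsurj, finrank_top, Module.finrank_fin_fun, P.finE] at h1
  have h2 : W.comap E.subtype ≤ LinearMap.ker L := fun w hw => funext fun l => horth _ hw _ (b l).2
  have h3 := Submodule.finrank_mono h2
  rw [LinearEquiv.finrank_eq (Submodule.comapSubtypeEquivOfLe hW)] at h3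
  omega

include hF in
theorem map_finrank_le {D E : Submodule F (Fin n → F)} (P : Pair q d D E) (T : Module.End F (Fin n → F))
    (hiso : ∀ u v, h (T u) (T v) = h u v) (hD : ∀ v ∈ D, T v ∈ D) {s : F} (hs : s ^ (q + 1) = 1) :
    finrank F (D.map (T - s • 1)) ≤ finrank F (E.map (T - s • 1)) := by
  have hss : s * σ s = 1 := by rw [frob_apply hF, ← pow_succ', hs]
  have hs0 : s ≠ 0 := left_ne_zero_of_mul (a := s) (b := σ s) (by rw [hss]; exact one_ne_zero)
  set L := T - s • (1 : Module.End F (Fin n → F))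
  have horth : ∀ w ∈ E ⊓ LinearMap.ker L, ∀ u ∈ D.map L, h w u = 0 := by
    rintro w ⟨-, hw⟩ _ ⟨u, -, rfl⟩
    have hTw : T w = s • w := sub_eq_zero.mp hw
    have h1 := hiso w u
    rw [hTw, h_smul_left] at h1
    show h w (T u - s • u) = 0
    rw [h_sub_right hF, h_smul_right hF]
    refine mul_left_cancel₀ hs0 ?_
    rw [mul_sub, h1, ← mul_assoc, hss, one_mul, sub_self, mul_zero]
  have hle : D.map L ≤ D := by
    rintro _ ⟨u, hu, rfl⟩
    exact D.sub_mem (hD u hu) (D.smul_mem s hu)
  have h1 := annihilator_le hF P hle inf_le_left horth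
  have h2 := LinearMap.finrank_range_add_finrank_ker (L.comp E.subtype)
  rw [LinearMap.range_comp, Submodule.range_subtype, P.finE, LinearMap.ker_comp] at h2
  have h3 : finrank F ↥((LinearMap.ker L).comap E.subtype) = finrank F ↥(E ⊓ LinearMap.ker L) := by
    rw [← Submodule.finrank_map_subtype_eq E, Submodule.map_comap_subtype]
  omega

include hF in
/-- An odd defect is not found in the stabiliser. -/
theorem defect_even {D : Fin 2 → Submodule F (Fin n → F)} (hD : Cfsg.Geo.IsMDecomposition d D) (hn : n = 2 * d)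
    (hts : ∀ i, Cfsg.Geo.IsTotallySingularFor (Cfsg.hermForm n F q) (D i)) {y : GL (Fin n) F}
    (hy : y ∈ Cfsg.GU n F q) (hstab : y ∈ Cfsg.Geo.decompositionStabilizer D) {s : F} (hs : s ^ (q + 1) = 1)
    (hor : (∃ k, Odd k ∧ ∃ z : F, ((y ^ k : GL (Fin n) F) : Matrix (Fin n) (Fin n) F) = z • 1) ∨
      ((y : Matrix (Fin n) (Fin n) F) - s • 1).rank < d) :
    Even ((y : Matrix (Fin n) (Fin n) F) - s • 1).rank := by
  classical
  obtain ⟨π, hπ⟩ := hstab
  have P := pair_of_decomposition (hD := hD) hn hts
  set T := Matrix.toLin' (y : Matrix (Fin n) (Fin n) F) with hTdef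
  set L := T - s • (1 : Module.End F (Fin n → F)) with hLdef
  have hrank : ((y : Matrix (Fin n) (Fin n) F) - s • 1).rank = finrank F (LinearMap.range L) := by
    rw [Matrix.rank, hLdef, hTdef, show (1 : Module.End F (Fin n → F)) = Matrix.toLin' 1 from Matrix.toLin'_one.symm,
      ← map_smul, ← map_sub]
    rfl
  have hdisj : D 0 ⊓ D 1 = ⊥ := P.compl.inf_eq_bot
  have hne : π = 1 := by
    by_contra hne
    have h01 : π 0 = 1 ∧ π 1 = 0 :=
      (show ∀ ρ : Equiv.Perm (Fin 2), ρ ≠ 1 → ρ 0 = 1 ∧ ρ 1 = 0 by decide) π hne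
    rcases hor with ⟨k, hk, z, hz⟩ | hlt
    · have hz0 : z ≠ 0 := by
        rintro rfl
        haveI : Nonempty (Fin n) := ⟨⟨0, by have := hD.pos; omega⟩⟩
        rw [zero_smul] at hz
        exact (y ^ k).ne_zero hz
      have key : ∀ j : ℕ, ∀ i, (D i).map (T ^ j) = D ((π ^ j) i) := by
        intro j
        induction j with
        | zero => intro i; simp [Module.End.one_eq_id]
        | succ j ih =>
          intro i
          rw [pow_succ', pow_succ', Module.End.mul_eq_comp, Submodule.map_comp, ih, hπ, Equiv.Perm.mul_apply]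
      have h1 := key k 0
      rw [hTdef, ← Matrix.toLin'_pow, ← Units.val_pow_eq_pow_val, hz, map_smul, Matrix.toLin'_one,
        Submodule.map_smul _ _ _ hz0, Submodule.map_id] at h1
      obtain ⟨j, rfl⟩ := hk
      have h2 : π ^ 2 = 1 := (show ∀ ρ : Equiv.Perm (Fin 2), ρ ^ 2 = 1 by decide) π
      rw [pow_succ, pow_mul, h2, one_pow, one_mul, h01.1] at h1
      have : D 0 = ⊥ := by rw [← hdisj, ← h1, inf_idem]
      have h3 := P.finD
      rw [this, finrank_bot] at h3
      have := hD.pos
      omega
    · have hinj : LinearMap.ker (L.comp (D 0).subtype) = ⊥ := by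
        refine (Submodule.eq_bot_iff _).mpr fun v hv => Subtype.ext ?_
        have hTv : T (v : Fin n → F) = s • (v : Fin n → F) := sub_eq_zero.mp hv
        have hm : T (v : Fin n → F) ∈ D 1 := by
          rw [← h01.1, ← hπ 0]
          exact Submodule.mem_map_of_mem v.2
        have hmem : T (v : Fin n → F) ∈ D 0 ⊓ D 1 := ⟨by rw [hTv]; exact (D 0).smul_mem s v.2, hm⟩
        rw [hdisj, Submodule.mem_bot, hTv, smul_eq_zero] at hmem
        exact hmem.resolve_left fun h0 => by simp [h0, zero_pow (by omega : q + 1 ≠ 0)] at hs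
      have h1 := LinearMap.finrank_range_add_finrank_ker (L.comp (D 0).subtype)
      rw [hinj, finrank_bot, add_zero, P.finD] at h1
      have h2 : finrank F (LinearMap.range (L.comp (D 0).subtype)) ≤ finrank F (LinearMap.range L) :=
        Submodule.finrank_mono (LinearMap.range_comp_le_range _ _)
      omega
  subst hne
  have hinv : ∀ i, ∀ v ∈ D i, T v ∈ D i := fun i v hv => (hπ i).le (Submodule.mem_map_of_mem hv)
  have hLinv : ∀ i, (D i).map L ≤ D i := by
    rintro i _ ⟨u, hu, rfl⟩
    exact (D i).sub_mem (hinv i u hu) ((D i).smul_mem s hu)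
  have hiso : ∀ u v, h (T u) (T v) = h u v := fun u v => hy u v
  have e1 := map_finrank_le hF P T hiso (hinv 0) hs
  have e2 := map_finrank_le hF P.symm T hiso (hinv 1) hs
  have hsum := Submodule.finrank_sup_add_finrank_inf_eq ((D 0).map L) ((D 1).map L)
  rw [show (D 0).map L ⊓ (D 1).map L = ⊥ from le_bot_iff.mp ((inf_le_inf (hLinv 0) (hLinv 1)).trans hdisj.le),
    finrank_bot, add_zero, ← Submodule.map_sup, P.compl.sup_eq_top, Submodule.map_top] at hsum
  rw [← hLdef] at e1 e2
  exact ⟨finrank F ((D 0).map L), by rw [hrank, hsum]; omega⟩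

end CfsgLib.PairElusive
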