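/-
Unitary elements of prime order without conjugates in the stabiliser of a pair.
-/
import Cfsg.Agent.Lib.PairElusive.Core
import Cfsg.Agent.Lib.UnitaryOrder
import Cfsg.Agent.Lib.MaxSub.ElusiveImprim

set_option autoImplicit false
set_option linter.unusedSectionVars false

namespace CfsgLib.PairElusive

open Matrix Module CfsgLib.UnitaryTransvection CfsgLib.MaxSub.PairSU CfsgLib.MaxSub.Elusive

universe u

variable {F : Type u} [Field F] [Fintype F] {n q d : ℕ}

local notation "Hf" => Cfsg.hermForm n F q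
local notation "G" => Cfsg.GU n F q ⊓ Cfsg.Geo.specialLinear (Fin n) F

/-- The element sought. -/
def Bad (q r : ℕ) (D : Fin 2 → Submodule F (Fin n → F)) : Prop :=
  ∃ x ∈ Cfsg.GU n F q ⊓ Cfsg.Geo.specialLinear (Fin n) F,
    (∃ z : F, ((x ^ r : GL (Fin n) F) : Matrix (Fin n) (Fin n) F) = z • 1) ∧
    (∀ z : F, (x : Matrix (Fin n) (Fin n) F) ≠ z • 1) ∧
    ∀ g ∈ Cfsg.GU n F q ⊓ Cfsg.Geo.specialLinear (Fin n) F, g⁻¹ * x * g ∉ Cfsg.Geo.decompositionStabilizer D

theorem bad_of_defect (hF : Fintype.card F = q ^ 2) {D : Fin 2 → Submodule F (Fin n → F)}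
    (hD : Cfsg.Geo.IsMDecomposition d D) (hn : n = 2 * d)
    (hts : ∀ i, Cfsg.Geo.IsTotallySingularFor (Cfsg.hermForm n F q) (D i)) {r : ℕ} {x : GL (Fin n) F} (hx : x ∈ G)
    {z : F} (hz : ((x ^ r : GL (Fin n) F) : Matrix (Fin n) (Fin n) F) = z • 1) {s : F} (hs : s ^ (q + 1) = 1)
    (hodd : Odd ((x : Matrix (Fin n) (Fin n) F) - s • 1).rank)
    (hor : Odd r ∨ ((x : Matrix (Fin n) (Fin n) F) - s • 1).rank < d) : Bad q r D := by
  refine ⟨x, hx, ⟨z, hz⟩, fun w hw => ?_, fun g hg hmem => ?_⟩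
  · rw [hw, ← sub_smul] at hodd
    by_cases h0 : w - s = 0
    · rw [h0, zero_smul, Matrix.rank_zero] at hodd
      exact Nat.not_odd_zero hodd
    · rw [Matrix.rank_of_isUnit _ ((Matrix.isUnit_iff_isUnit_det _).mpr (by
        rw [Matrix.det_smul, Matrix.det_one, mul_one]; exact (isUnit_iff_ne_zero.mpr h0).pow _)), Fintype.card_fin, hn] at hodd
      exact (Nat.not_even_iff_odd.mpr hodd) (even_two_mul d)
  · have hy : g⁻¹ * x * g ∈ Cfsg.GU n F q := mul_mem (mul_mem (inv_mem hg.1) hx.1) hg.1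
    have hgg : ((g⁻¹ : GL (Fin n) F) : Matrix (Fin n) (Fin n) F) * (g : Matrix (Fin n) (Fin n) F) = 1 := by
      rw [← Units.val_mul, inv_mul_cancel, Units.val_one]
    have hsub : ((g⁻¹ * x * g : GL (Fin n) F) : Matrix (Fin n) (Fin n) F) - s • 1 =
        ((g⁻¹ : GL (Fin n) F) : Matrix (Fin n) (Fin n) F) * ((x : Matrix (Fin n) (Fin n) F) - s • 1) * g := by
      rw [mul_sub, sub_mul, Units.val_mul, Units.val_mul, mul_smul_comm, smul_mul_assoc, mul_one, hgg]
    have hrank : (((g⁻¹ * x * g : GL (Fin n) F) : Matrix (Fin n) (Fin n) F) - s • 1).rank =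
        ((x : Matrix (Fin n) (Fin n) F) - s • 1).rank := by
      rw [hsub, Matrix.rank_mul_eq_left_of_isUnit_det _ _ (Matrix.isUnits_det_units _),
        Matrix.rank_mul_eq_right_of_isUnit_det _ _ (Matrix.isUnits_det_units _)]
    refine (Nat.not_even_iff_odd.mpr hodd) (hrank ▸ defect_even hF hD hn hts hy hmem hs ?_)
    rw [hrank]
    refine hor.imp_left fun hr => ⟨r, hr, z, ?_⟩
    have hpow : (g⁻¹ * x * g) ^ r = g⁻¹ * x ^ r * g := by simpa using conj_pow (a := g⁻¹) (b := x) (i := r)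
    rw [hpow, Units.val_mul, Units.val_mul, hz, mul_smul_comm, smul_mul_assoc, mul_one, hgg]

variable {p : ℕ} [Fact p.Prime] [CharP F p]

/-- A transvection. -/
theorem bad_char (hF : Fintype.card F = q ^ 2) {D : Fin 2 → Submodule F (Fin n → F)}
    (hD : Cfsg.Geo.IsMDecomposition d D) (hn : n = 2 * d) (hd : 2 ≤ d)
    (hts : ∀ i, Cfsg.Geo.IsTotallySingularFor (Cfsg.hermForm n F q) (D i)) : Bad q p D := by
  classical
  have P := pair_of_decomposition (hD := hD) hn hts
  obtain ⟨C, hC, -⟩ := exists_dual_basis hF P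
  set u := C (Sum.inl ⟨0, by omega⟩)
  have hu : Hf u u = 0 := P.tsD u (hC _).1 u (hC _).1
  obtain ⟨c, hc0, hc⟩ := exists_skew hF
  obtain ⟨g, hg, hgT⟩ := exists_T (hF := hF) hu hc
  have hpow : ∀ (k : ℕ) x, ((g ^ k : GL (Fin n) F) : Matrix (Fin n) (Fin n) F) *ᵥ x = x + ((k : F) * c * Hf x u) • u := by
    intro k
    induction k with
    | zero => intro x; simp
    | succ k ih =>
      intro x
      rw [pow_succ, Units.val_mul, ← Matrix.mulVec_mulVec, hgT, Matrix.mulVec_add, Matrix.mulVec_smul, ih, ih, hu,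
        mul_zero, zero_smul, add_zero, add_assoc, ← add_smul]
      push_cast
      ring_nf
  have hz : ((g ^ p : GL (Fin n) F) : Matrix (Fin n) (Fin n) F) = (1 : F) • 1 := by
    refine Matrix.ext_of_mulVec_single fun i => ?_
    rw [hpow, CharP.cast_eq_zero, zero_mul, zero_mul, zero_smul, add_zero, one_smul, Matrix.one_mulVec]
  have hap : ∀ v, ((g : Matrix (Fin n) (Fin n) F) - (1 : F) • 1) *ᵥ v = (c * Hf v u) • u := fun v => by
    rw [one_smul, Matrix.sub_mulVec, hgT, Matrix.one_mulVec, add_sub_cancel_left]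
  obtain ⟨v, hv⟩ : ∃ v, Hf v u ≠ 0 := by
    by_contra hno
    push Not at hno
    exact C.ne_zero _ (h_nondeg hF fun y => by rw [← h_swap hF, hno, map_zero])
  have hr : LinearMap.range ((g : Matrix (Fin n) (Fin n) F) - (1 : F) • 1).mulVecLin = Submodule.span F {u} := by
    refine le_antisymm ?_ ((Submodule.span_singleton_le_iff_mem _ _).mpr ⟨(c * Hf v u)⁻¹ • v, ?_⟩)
    · rintro _ ⟨w, rfl⟩
      exact Submodule.mem_span_singleton.mpr ⟨_, (hap w).symm⟩
    · rw [map_smul, Matrix.mulVecLin_apply, hap, smul_smul, inv_mul_cancel₀ (mul_ne_zero hc0 hv), one_smul]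
  have hrk : ((g : Matrix (Fin n) (Fin n) F) - (1 : F) • 1).rank = 1 := by
    rw [Matrix.rank, hr, finrank_span_singleton (C.ne_zero _)]
  exact bad_of_defect hF hD hn hts hg hz (one_pow _) (by rw [hrk]; exact odd_one) (Or.inr (by rw [hrk]; omega))

theorem dgl_mem_G {v : Fin n → Fˣ} (h1 : ∀ i, v i ^ (q + 1) = 1) (h2 : ∏ i, (v i : F) = 1) :
    UnitaryBasic.dgl v ∈ G := by
  refine ⟨UnitaryBasic.dgl_mem v h1, Units.ext ?_⟩
  show (Matrix.diagonal fun i => (v i : F)).det = 1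
  rw [Matrix.det_diagonal, h2]

theorem dgl_pow (v : Fin n → Fˣ) (k : ℕ) {z : F} (hz : ∀ i, (v i : F) ^ k = z) :
    ((UnitaryBasic.dgl v ^ k : GL (Fin n) F) : Matrix (Fin n) (Fin n) F) = z • 1 := by
  rw [Units.val_pow_eq_pow_val]
  show (Matrix.diagonal fun i => (v i : F)) ^ k = _
  rw [Matrix.diagonal_pow, ← Matrix.diagonal_one, ← Matrix.diagonal_smul]
  congr 1
  funext i
  simp [hz]

theorem ne_neg_self (h2 : p ≠ 2) {s : F} (hs : s ≠ 0) : -s ≠ s := fun e => by
  have h' : (2 : F) * s = 0 := by linear_combination -e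
  rcases mul_eq_zero.mp h' with h3 | h3
  · exact CfsgLib.GLClassNumber.natCast_ne_zero_of_prime_ne (F := F) (p := p) Nat.prime_two h2.symm (by exact_mod_cast h3)
  · exact hs h3

/-- An involution with one exceptional eigenvalue. -/
theorem bad_two (hF : Fintype.card F = q ^ 2) {D : Fin 2 → Submodule F (Fin n → F)}
    (hD : Cfsg.Geo.IsMDecomposition d D) (hn : n = 2 * d) (hd : 2 ≤ d)
    (hts : ∀ i, Cfsg.Geo.IsTotallySingularFor (Cfsg.hermForm n F q) (D i)) (hqodd : Odd q) (hp : p ≠ 2)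
    (hlt : padicValNat 2 n < padicValNat 2 (q + 1)) : Bad q 2 D := by
  classical
  obtain ⟨ζ, hζ⟩ := UnitaryBasic.exists_zeta hF
  set v := padicValNat 2 n
  have hv1 : 2 ^ (v + 1) ∣ q + 1 := (padicValNat_dvd_iff_le (by omega)).mpr hlt
  set s := ζ ^ ((q + 1) / 2 ^ (v + 1)) with hsdef
  have hs : orderOf s = 2 ^ (v + 1) := by
    rw [hsdef, orderOf_pow_of_dvd ((Nat.div_ne_zero_iff_of_dvd hv1).mpr ⟨by omega, pow_ne_zero _ two_ne_zero⟩)
      (by rw [hζ]; exact Nat.div_dvd_of_dvd hv1), hζ, Nat.div_div_self hv1 (by omega)]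
  have hsq : s ^ (q + 1) = 1 := orderOf_dvd_iff_pow_eq_one.mp (hs ▸ hv1)
  have hneg1 : ((-1 : Fˣ)) ^ (q + 1) = 1 := Even.neg_one_pow hqodd.add_one
  have hsn : (s : F) ^ n = -1 := by
    have h1 : ((s : F) ^ n) ^ 2 = 1 := by
      rw [← Units.val_pow_eq_pow_val, ← Units.val_pow_eq_pow_val, ← pow_mul,
        orderOf_dvd_iff_pow_eq_one.mp (by rw [hs, pow_succ]; exact Nat.mul_dvd_mul_right pow_padicValNat_dvd 2),
        Units.val_one]
    refine (sq_eq_one_iff.mp h1).resolve_left fun h => ?_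
    have h' : s ^ n = 1 := Units.ext (by rw [Units.val_pow_eq_pow_val, h, Units.val_one])
    have := orderOf_dvd_of_pow_eq_one h'
    rw [hs, padicValNat_dvd_iff_le (by omega)] at this
    omega
  let i0 : Fin n := ⟨0, by omega⟩
  let w : Fin n → Fˣ := fun i => if i = i0 then -s else s
  have hmem : UnitaryBasic.dgl w ∈ G := by
    refine dgl_mem_G (fun i => ?_) ?_
    · by_cases hi : i = i0
      · simp only [w, if_pos hi]
        rw [neg_eq_neg_one_mul, mul_pow, hneg1, hsq, one_mul]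
      · simp only [w, if_neg hi, hsq]
    · rw [← Finset.mul_prod_erase _ _ (Finset.mem_univ i0),
        Finset.prod_eq_pow_card (b := (s : F)) (fun i hi => by simp [w, (Finset.mem_erase.mp hi).1]),
        Finset.card_erase_of_mem (Finset.mem_univ _), Finset.card_univ, Fintype.card_fin]
      simp only [w, if_true, Units.val_neg]
      rw [neg_mul, ← pow_succ', Nat.sub_add_cancel (by omega : 1 ≤ n), hsn, neg_neg]
  have hrk : ((UnitaryBasic.dgl w : Matrix (Fin n) (Fin n) F) - (s : F) • 1).rank = 1 := by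
    show ((Matrix.diagonal fun i => (w i : F)) - (s : F) • 1).rank = 1
    rw [TensorElusive.rank_diag_sub, show (Finset.univ.filter fun i => (w i : F) ≠ (s : F)) = {i0} by
      ext i
      by_cases h : i = i0 <;> simp [w, h, ne_neg_self (p := p) hp (Units.ne_zero s)], Finset.card_singleton]
  refine bad_of_defect hF hD hn hts hmem (dgl_pow w 2 (z := (s : F) ^ 2) fun i => ?_)
    (s := (s : F)) (by rw [← Units.val_pow_eq_pow_val, hsq, Units.val_one]) (by rw [hrk]; exact odd_one)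
    (Or.inr (by rw [hrk]; omega))
  by_cases h : i = i0 <;> simp [w, h]

/-- Odd primes dividing `q + 1`. -/
theorem bad_split (hF : Fintype.card F = q ^ 2) {D : Fin 2 → Submodule F (Fin n → F)}
    (hD : Cfsg.Geo.IsMDecomposition d D) (hn : n = 2 * d) (hd : 2 ≤ d)
    (hts : ∀ i, Cfsg.Geo.IsTotallySingularFor (Cfsg.hermForm n F q) (D i)) {r : ℕ} [Fact r.Prime] (hr2 : r ≠ 2)
    (hrq : r ∣ q + 1) : Bad q r D := by
  classical
  have hr : r.Prime := Fact.out
  obtain ⟨ζ, hζ⟩ := UnitaryBasic.exists_zeta hF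
  set ω := ζ ^ ((q + 1) / r) with hωdef
  have hω : orderOf ω = r := by
    rw [hωdef, orderOf_pow_of_dvd ((Nat.div_ne_zero_iff_of_dvd hrq).mpr ⟨by omega, hr.ne_zero⟩)
      (by rw [hζ]; exact Nat.div_dvd_of_dvd hrq), hζ, Nat.div_div_self hrq (by omega)]
  have hωq : ω ^ (q + 1) = 1 := orderOf_dvd_iff_pow_eq_one.mp (hω ▸ hrq)
  have hωr : ω ^ r = 1 := hω ▸ pow_orderOf_eq_one ω
  have hω1 : ω ≠ 1 := fun h => hr.ne_one (by rw [← hω, h, orderOf_one])
  have hωi : ω⁻¹ ≠ ω := fun h => by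
    have h2 : ω ^ 2 = 1 := by rw [pow_two]; nth_rw 1 [← h]; exact inv_mul_cancel ω
    exact hr2 (le_antisymm (Nat.le_of_dvd two_pos (hω ▸ orderOf_dvd_of_pow_eq_one h2)) hr.two_le)
  let i0 : Fin n := ⟨0, by omega⟩
  let i1 : Fin n := ⟨1, by omega⟩
  have h01 : i0 ≠ i1 := by simp [i0, i1]
  let w : Fin n → Fˣ := fun i => if i = i0 then ω else if i = i1 then ω⁻¹ else 1
  have hmem : UnitaryBasic.dgl w ∈ G := by
    refine dgl_mem_G (fun i => ?_) ?_
    · simp only [w]
      split_ifs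
      · exact hωq
      · rw [inv_pow, hωq, inv_one]
      · exact one_pow _
    · rw [← Units.coe_prod, ← Finset.prod_subset (Finset.subset_univ {i0, i1}) (fun i _ hi => by
        simp only [Finset.mem_insert, Finset.mem_singleton, not_or] at hi
        simp [w, hi.1, hi.2]), Finset.prod_pair h01]
      simp [w, h01.symm]
  have hrk : ((UnitaryBasic.dgl w : Matrix (Fin n) (Fin n) F) - (ω : F) • 1).rank = n - 1 := by
    show ((Matrix.diagonal fun i => (w i : F)) - (ω : F) • 1).rank = n - 1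
    rw [TensorElusive.rank_diag_sub, show (Finset.univ.filter fun i => (w i : F) ≠ (ω : F)) = Finset.univ.erase i0 by
      ext i
      simp only [Finset.mem_filter, Finset.mem_univ, true_and, ne_eq, Units.val_inj, Finset.mem_erase, and_true]
      by_cases h : i = i0
      · simp [w, h]
      · by_cases h' : i = i1 <;> simp [w, h, h', hωi, Ne.symm hω1, h01.symm],
      Finset.card_erase_of_mem (Finset.mem_univ _), Finset.card_univ, Fintype.card_fin]
  refine bad_of_defect hF hD hn hts hmem (dgl_pow w r (z := 1) fun i => ?_) (s := (ω : F))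
    (by rw [← Units.val_pow_eq_pow_val, hωq, Units.val_one]) (by rw [hrk]; exact ⟨d - 1, by omega⟩)
    (Or.inl (hr.odd_of_ne_two hr2))
  rw [← Units.val_pow_eq_pow_val, Units.val_eq_one]
  simp only [w]
  split_ifs <;> simp [inv_pow, hωr]

theorem rank_fromBlocks_corner {a b : ℕ} (A : Matrix (Fin a) (Fin a) F) :
    (Matrix.fromBlocks A 0 0 (0 : Matrix (Fin b) (Fin b) F)).rank = A.rank := by
  classical
  set M := Matrix.fromBlocks A 0 0 (0 : Matrix (Fin b) (Fin b) F)
  let Pm : Matrix (Fin a ⊕ Fin b) (Fin a) F := Matrix.fromRows 1 0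
  let Qm : Matrix (Fin a) (Fin a ⊕ Fin b) F := Matrix.fromCols 1 0
  have h1 : M = Pm * (A * Qm) := by
    ext (i | i) (j | j) <;> simp [M, Pm, Qm, Matrix.mul_apply, Matrix.one_apply]
  have h2 : A = Qm * (M * Pm) := by
    ext i j
    simp [M, Pm, Qm, Matrix.mul_apply, Fintype.sum_sum_type, Matrix.one_apply]
  refine le_antisymm ?_ ?_
  · rw [h1]
    exact (Matrix.rank_mul_le_right _ _).trans (Matrix.rank_mul_le_left _ _)
  · conv_lhs => rw [h2]
    exact (Matrix.rank_mul_le_right _ _).trans (Matrix.rank_mul_le_left _ _)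

/-- One irreducible unitary block. -/
theorem bad_block (hF : Fintype.card F = q ^ 2) {D : Fin 2 → Submodule F (Fin n → F)}
    (hD : Cfsg.Geo.IsMDecomposition d D) (hn : n = 2 * d)
    (hts : ∀ i, Cfsg.Geo.IsTotallySingularFor (Cfsg.hermForm n F q) (D i)) {r : ℕ} [Fact r.Prime] (hr2 : r ≠ 2)
    (hrp : r ≠ p) (hrq : ¬ r ∣ q + 1) {j : ℕ} (hjo : Odd j) (hjn : j ≤ n) (hrj : r ∣ q ^ j + 1) : Bad q r D := by
  classical
  have hr : r.Prime := Fact.out
  have hrodd : Odd r := hr.odd_of_ne_two hr2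
  set m := orderOf (Fintype.card F : ZMod r) with hm
  have hqj : (q : ZMod r) ^ j = -1 := by
    have h1 := (ZMod.natCast_eq_zero_iff _ _).mpr hrj
    push_cast at h1
    exact eq_neg_of_add_eq_zero_left h1
  have hQ : (Fintype.card F : ZMod r) = (q : ZMod r) ^ 2 := by rw [hF]; push_cast; rfl
  have hmj : m ∣ j := orderOf_dvd_of_pow_eq_one (by rw [hQ, ← pow_mul, mul_comm, pow_mul, hqj, neg_one_sq])
  have hmo : Odd m := Odd.of_dvd_nat hjo hmj
  have hm0 : 0 < m := hmo.pos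
  have hqm : (q : ZMod r) ^ m = -1 := by
    have h1 : ((q : ZMod r) ^ m) * ((q : ZMod r) ^ m) = 1 := by
      rw [← pow_two, ← pow_mul, mul_comm, pow_mul, ← hQ, hm, pow_orderOf_eq_one]
    refine (mul_self_eq_one_iff.mp h1).resolve_left fun h2 => ?_
    obtain ⟨k, hk⟩ := hmj
    rw [hk, pow_mul, h2, one_pow] at hqj
    haveI : Fact (2 < r) := ⟨lt_of_le_of_ne hr.two_le (Ne.symm hr2)⟩
    exact ZMod.neg_one_ne_one hqj.symm
  have hdvd : r ∣ Nat.card (Cfsg.GU m F q) := by
    rw [UnitaryOrder.card_GU hF]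
    refine dvd_mul_of_dvd_right (dvd_trans ?_ (Finset.dvd_prod_of_mem _ (Finset.mem_range.mpr (show m - 1 < m by omega)))) _
    rw [if_pos (Nat.Odd.sub_odd hmo odd_one), Nat.sub_add_cancel hm0]
    rw [← ZMod.natCast_eq_zero_iff]
    push_cast
    rw [hqm, neg_add_cancel]
  obtain ⟨y, hy⟩ := exists_prime_orderOf_dvd_card' r hdvd
  set Y := ((y : GL (Fin m) F) : Matrix (Fin m) (Fin m) F) with hYdef
  have hYr : Y ^ r = 1 := by
    have h1 : ((y : GL (Fin m) F)) ^ r = 1 := by rw [← SubmonoidClass.coe_pow, ← hy, pow_orderOf_eq_one]; rfl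
    rw [hYdef, ← Units.val_pow_eq_pow_val, h1, Units.val_one]
  have hY1 : Y ≠ 1 := fun e => hr.ne_one (by
    rw [← hy, orderOf_eq_one_iff]
    exact Subtype.ext (Units.ext e))
  have hYrk : (Y - 1).rank = m := by
    obtain ⟨k, hk⟩ := (dims_in_range (p := p) (Matrix.toLinAlgEquiv' Y) hr hrp (by rw [← map_pow, hYr, map_one])
      (LinearMap.range (Matrix.toLinAlgEquiv' Y - 1)) le_rfl (by
        rintro _ ⟨v, rfl⟩
        exact ⟨Matrix.toLinAlgEquiv' Y v, by simp [Matrix.mulVec_sub, Matrix.mulVec_mulVec]⟩)).1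
    rw [show (Y - 1).rank = finrank F (LinearMap.range (Matrix.toLinAlgEquiv' Y - 1)) by
      rw [Matrix.rank, ← map_one Matrix.toLinAlgEquiv', ← map_sub]; rfl]
    have hle := Submodule.finrank_le (LinearMap.range (Matrix.toLinAlgEquiv' Y - 1))
    rw [Module.finrank_fin_fun] at hle
    change finrank F (LinearMap.range (Matrix.toLinAlgEquiv' Y - 1)) = m * k at hk
    rcases Nat.lt_trichotomy k 1 with hk0 | rfl | hk2
    · obtain rfl : k = 0 := by omega
      rw [mul_zero, Submodule.finrank_eq_zero, LinearMap.range_eq_bot] at hk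
      exact absurd (Matrix.toLinAlgEquiv'.injective ((sub_eq_zero.mp hk).trans (map_one _).symm)) hY1
    · rw [hk, mul_one]
    · have : m * 2 ≤ m * k := Nat.mul_le_mul_left m hk2
      omega
  obtain ⟨l, hl⟩ : ∃ l, n = m + l := ⟨n - m, by have := Nat.le_of_dvd hjo.pos hmj; omega⟩
  let e : Fin m ⊕ Fin l ≃ Fin n := finSumFinEquiv.trans (finCongr hl.symm)
  let φ := Matrix.reindexAlgEquiv F F e
  let Z : Matrix (Fin n) (Fin n) F := φ (Matrix.fromBlocks Y 0 0 1)
  have hZr : Z ^ r = 1 := by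
    have h1 : ∀ k : ℕ, (Matrix.fromBlocks Y 0 0 (1 : Matrix (Fin l) (Fin l) F)) ^ k = Matrix.fromBlocks (Y ^ k) 0 0 1 := by
      intro k
      induction k with
      | zero => simp
      | succ k ih => rw [pow_succ, ih, Matrix.fromBlocks_multiply]; simp [pow_succ]
    rw [← map_pow, h1, hYr, Matrix.fromBlocks_one, map_one]
  have hZrk : (Z - 1).rank = m := by
    rw [← map_one φ, ← map_sub, Matrix.coe_reindexAlgEquiv, Matrix.rank_reindex, ← Matrix.fromBlocks_one]
    rw [show Matrix.fromBlocks Y 0 0 1 - Matrix.fromBlocks (1 : Matrix (Fin m) (Fin m) F) 0 0 (1 : Matrix (Fin l) (Fin l) F) =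
      Matrix.fromBlocks (Y - 1) 0 0 0 by ext (i | i) (j | j) <;> simp [Matrix.one_apply], rank_fromBlocks_corner, hYrk]
  have hdetY : Y.det = 1 := by
    set u := Matrix.GeneralLinearGroup.det (y : GL (Fin m) F) with hudef
    have h1 : u ^ (q + 1) = 1 := UnitaryBasic.det_pow hF y.2
    have h2 : u ^ r = 1 := by rw [hudef, ← map_pow, ← SubmonoidClass.coe_pow, ← hy, pow_orderOf_eq_one]; exact map_one _
    have h4 : u ^ 1 = 1 := by
      rw [← (hr.coprime_iff_not_dvd.mpr hrq).gcd_eq_one]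
      exact pow_gcd_eq_one.mpr ⟨h2, h1⟩
    rw [pow_one] at h4
    exact congrArg Units.val h4
  have hZdet : Z.det = 1 := by
    show (φ (Matrix.fromBlocks Y 0 0 1)).det = 1
    rw [Matrix.coe_reindexAlgEquiv, Matrix.det_reindex_self, Matrix.det_fromBlocks_zero₂₁, hdetY, Matrix.det_one, mul_one]
  let x : GL (Fin n) F := Matrix.GeneralLinearGroup.mkOfDetNeZero Z (hZdet.trans_ne one_ne_zero)
  have hiso : ∀ u v, Hf (Z *ᵥ u) (Z *ᵥ v) = Hf u v := by
    intro u v
    have hdec : ∀ a b : Fin n → F, Hf a b = Cfsg.hermForm m F q (a ∘ e ∘ Sum.inl) (b ∘ e ∘ Sum.inl) +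
        Cfsg.hermForm l F q (a ∘ e ∘ Sum.inr) (b ∘ e ∘ Sum.inr) := fun a b => by
      simp only [Cfsg.hermForm, Function.comp_apply]
      rw [← Fintype.sum_sum_type (f := fun k => a (e k) * b (e k) ^ q)]
      exact (e.sum_comp fun i => a i * b i ^ q).symm
    have hap : ∀ a : Fin n → F, ((Z *ᵥ a) ∘ e ∘ Sum.inl = Y *ᵥ (a ∘ e ∘ Sum.inl)) ∧
        ((Z *ᵥ a) ∘ e ∘ Sum.inr = a ∘ e ∘ Sum.inr) := fun a => by
      have h1 : Z *ᵥ a = (Matrix.fromBlocks Y 0 0 1 *ᵥ (a ∘ e)) ∘ e.symm := by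
        show (Matrix.reindex e e (Matrix.fromBlocks Y 0 0 1)) *ᵥ a = _
        rw [Matrix.reindex_apply, Matrix.submatrix_mulVec_equiv]
        rfl
      rw [h1]
      constructor <;> funext i <;> simp [Matrix.fromBlocks_mulVec, Function.comp_def]
    rw [hdec, hdec, (hap u).1, (hap u).2, (hap v).1, (hap v).2]
    congr 1
    exact y.2 _ _
  refine bad_of_defect hF hD hn hts (x := x) ⟨hiso, Units.ext hZdet⟩ (z := 1)
    (by rw [Units.val_pow_eq_pow_val, one_smul]; exact hZr) (s := 1) (one_pow _) ?_ (Or.inl hrodd)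
  show Odd (Z - (1 : F) • 1).rank
  rw [one_smul, hZrk]
  exact hmo

end CfsgLib.PairElusive
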