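/-
Odd primes dividing the index of the stabiliser of a pair.
-/
import Cfsg.Agent.Lib.PairElusive.Levi
import Cfsg.Agent.Lib.UnitaryOrder

set_option autoImplicit false
set_option linter.unusedSectionVars false

namespace CfsgLib.PairElusive

open Matrix Module CfsgLib.UnitaryTransvection CfsgLib.MaxSub.PairSU

universe u

variable {F : Type u} [Field F] [Fintype F] {n q d : ℕ}

theorem prod_pairs {M : Type} [CommMonoid M] (f : ℕ → M) (d : ℕ) :
    ∏ i ∈ Finset.range (2 * d), f i = (∏ k ∈ Finset.range d, f (2 * k)) * ∏ k ∈ Finset.range d, f (2 * k + 1) := by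
  induction d with
  | zero => simp
  | succ d ih =>
    rw [show 2 * (d + 1) = 2 * d + 1 + 1 by ring, Finset.prod_range_succ, Finset.prod_range_succ, ih,
      Finset.prod_range_succ _ d, Finset.prod_range_succ _ d]
    simp [mul_assoc, mul_comm, mul_left_comm]

theorem index_prime (hF : Fintype.card F = q ^ 2) {D : Fin 2 → Submodule F (Fin n → F)}
    (hD : Cfsg.Geo.IsMDecomposition d D) (hn : n = 2 * d)
    (hts : ∀ i, Cfsg.Geo.IsTotallySingularFor (Cfsg.hermForm n F q) (D i)) {r : ℕ} (hr : r.Prime) (hrq : ¬ r ∣ q)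
    (hΩ : r ∣ (Cfsg.Geo.decompositionStabilizer D).relIndex (Cfsg.GU n F q ⊓ Cfsg.Geo.specialLinear (Fin n) F)) :
    ∃ j, Odd j ∧ j ≤ n ∧ r ∣ q ^ j + 1 := by
  classical
  obtain ⟨C, hC, hgram⟩ := exists_dual_basis hF (pair_of_decomposition (hD := hD) hn hts)
  set S := Cfsg.GU n F q ⊓ Cfsg.Geo.specialLinear (Fin n) F
  let δ : GL (Fin d) F →* Fˣ := GeneralLinearGroup.det.comp (lev hF C)
  let L' : Subgroup (GL (Fin n) F) := δ.ker.map (lev hF C)
  have hL'S : L' ≤ S := by
    rintro _ ⟨A, hA, rfl⟩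
    exact ⟨lev_mem_GU hF C hgram A, hA⟩
  have hL'st : L' ≤ Cfsg.Geo.decompositionStabilizer D := by
    rintro _ ⟨A, -, rfl⟩
    exact lev_mem_stab hF C hD hC A
  have h1 : r ∣ L'.relIndex S := hΩ.trans (Subgroup.relIndex_dvd_of_le_left S hL'st)
  have h2 : r * Nat.card L' ∣ Nat.card S := by
    rw [← Subgroup.index_mul_card (L'.subgroupOf S), Nat.card_congr (Subgroup.subgroupOfEquivOfLe hL'S).toEquiv]
    exact Nat.mul_dvd_mul_right h1 _
  have hcard : Nat.card L' = Nat.card δ.ker :=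
    (Nat.card_congr (δ.ker.equivMapOfInjective _ (lev_injective hF C)).toEquiv).symm
  have hrange : δ.range ≤ (powMonoidHom (q + 1) : Fˣ →* Fˣ).ker := by
    rintro _ ⟨A, rfl⟩
    exact UnitaryBasic.det_pow hF (lev_mem_GU hF C hgram A)
  have hc : Nat.card δ.range ∣ q + 1 := by
    refine (Subgroup.card_dvd_of_le hrange).trans ?_
    rw [IsCyclic.card_powMonoidHom_ker]
    exact Nat.gcd_dvd_right _ _
  have hGL : Nat.card (GL (Fin d) F) = Nat.card δ.ker * Nat.card δ.range := by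
    rw [← Subgroup.index_ker, Subgroup.card_mul_index]
  have hS : Nat.card S = Nat.card (Cfsg.SU n F q) :=
    Nat.card_congr
      { toFun := fun g => ⟨⟨(g.1 : Matrix (Fin n) (Fin n) F), congrArg Units.val g.2.2⟩, g.2.1⟩
        invFun := fun g => ⟨SpecialLinearGroup.toGL g.1, g.2, Units.ext g.1.2⟩
        left_inv := fun g => Subtype.ext (Units.ext rfl)
        right_inv := fun g => Subtype.ext (Subtype.ext rfl) }
  have h3 : r * Nat.card (GL (Fin d) F) ∣ Nat.card (Cfsg.GU n F q) := by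
    rw [UnitaryOrder.card_GU_eq hF (by have := hD.pos; omega), hGL, ← mul_assoc, ← hcard, mul_comm (q + 1), ← hS]
    exact mul_dvd_mul h2 hc
  rw [UnitaryOrder.card_GU hF, Matrix.card_GL_field, hn, prod_pairs] at h3
  have hq1 : 1 < q := (UnitaryBasic.frob_exists hF).1
  set P2 := ∏ k ∈ Finset.range d, ((q ^ 2) ^ (k + 1) - 1)
  have hgl : ∏ i : Fin d, (Fintype.card F ^ d - Fintype.card F ^ (i : ℕ)) =
      (∏ i : Fin d, (q ^ 2) ^ (i : ℕ)) * P2 := by
    rw [hF, show P2 = ∏ i : Fin d, ((q ^ 2) ^ (d - (i : ℕ)) - 1) from ?_, ← Finset.prod_mul_distrib]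
    · refine Finset.prod_congr rfl fun i _ => ?_
      rw [Nat.mul_sub, mul_one, ← pow_add, show (i : ℕ) + (d - (i : ℕ)) = d by omega]
    · rw [← Fin.prod_univ_eq_prod_range (fun i => (q ^ 2) ^ (d - i) - 1) d |>.symm]
      rw [← Finset.prod_range_reflect (fun i => (q ^ 2) ^ (d - i) - 1) d]
      refine Finset.prod_congr rfl fun k hk => ?_
      rw [Finset.mem_range] at hk
      rw [show d - (d - 1 - k) = k + 1 by omega]
  have hodd : ∏ k ∈ Finset.range d, (if Even (2 * k + 1) then q ^ (2 * k + 1 + 1) + 1 else q ^ (2 * k + 1 + 1) - 1) = P2 :=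
    Finset.prod_congr rfl fun k _ => by
      rw [if_neg (by simp [parity_simps]), ← pow_mul, show 2 * k + 1 + 1 = 2 * (k + 1) by ring]
  rw [hgl, hodd, ← mul_assoc, ← mul_assoc] at h3
  have hP2 : 0 < P2 := Finset.prod_pos fun k _ => Nat.sub_pos_of_lt (Nat.one_lt_pow (by omega) (Nat.one_lt_pow two_ne_zero hq1))
  have h4 := Nat.dvd_of_mul_dvd_mul_right hP2 h3
  have h5 : r ∣ q ^ (2 * d * (2 * d - 1) / 2) *
      ∏ k ∈ Finset.range d, (if Even (2 * k) then q ^ (2 * k + 1) + 1 else q ^ (2 * k + 1) - 1) :=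
    (dvd_mul_right r _).trans h4
  rcases hr.dvd_mul.mp h5 with h6 | h6
  · exact absurd (hr.dvd_of_dvd_pow h6) hrq
  · obtain ⟨k, hk, hk'⟩ := (hr.prime.dvd_finsetProd_iff _).mp h6
    rw [if_pos (even_two_mul k)] at hk'
    rw [Finset.mem_range] at hk
    exact ⟨2 * k + 1, odd_two_mul_add_one k, by omega, hk'⟩

end CfsgLib.PairElusive
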