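/-
Involutions of `PSU` inside the stabiliser of a pair.
-/
import Cfsg.Agent.Lib.PairElusive.Levi
import Cfsg.Agent.Lib.SemisimpleIso.UnitaryDet
import Cfsg.Agent.Lib.TensorElusive.SympPos

set_option autoImplicit false
set_option linter.unusedSectionVars false

namespace CfsgLib.PairElusive

open Matrix Module CfsgLib.UnitaryTransvection CfsgLib.MaxSub.PairSU

universe u

variable {F : Type u} [Field F] [Fintype F] {n q d : ℕ}

local notation "Hf" => Cfsg.hermForm n F q

theorem isotropic_le (hF : Fintype.card F = q ^ 2) (W : Submodule F (Fin n → F))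
    (hW : ∀ u ∈ W, ∀ v ∈ W, Hf u v = 0) : 2 * finrank F W ≤ n := by
  classical
  let b := Module.finBasis F W
  let L : (Fin n → F) →ₗ[F] (Fin (finrank F W) → F) :=
    { toFun := fun v l => Hf v (b l : Fin n → F)
      map_add' := fun _ _ => funext fun _ => h_add_left _ _ _
      map_smul' := fun _ _ => funext fun _ => h_smul_left _ _ _ }
  have hsurj : LinearMap.range L = ⊤ := by
    by_contra hne
    obtain ⟨e, he⟩ : ∃ e, e ∉ LinearMap.range L := by
      by_contra hall
      push Not at hall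
      exact hne (eq_top_iff.mpr fun e _ => hall e)
    obtain ⟨φ, hφe, hφ⟩ := Submodule.exists_dual_map_eq_bot_of_notMem he inferInstance
    let c : Fin (finrank F W) → F := fun l => φ (Pi.single l 1)
    have hz : (∑ l, frob hF (c l) • (b l : Fin n → F)) = 0 := h_nondeg hF fun y => by
      let M : (Fin n → F) →+ F := AddMonoidHom.mk' (fun w => Hf y w) (fun a a' => h_add_right hF _ a a')
      have h0 : M (∑ l, frob hF (c l) • (b l : Fin n → F)) = 0 := by
        rw [map_sum]
        have h1 : φ (L y) = 0 := by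
          have h2 : φ (L y) ∈ (LinearMap.range L).map φ := Submodule.mem_map_of_mem (LinearMap.mem_range_self L y)
          rw [hφ, Submodule.mem_bot] at h2
          exact h2
        rw [LinearMap.pi_apply_eq_sum_univ φ (L y)] at h1
        rw [← h1]
        refine Finset.sum_congr rfl fun l _ => ?_
        show Hf y (frob hF (c l) • (b l : Fin n → F)) = _
        rw [h_smul_right hF, frob_frob, smul_eq_mul, mul_comm,
          show (fun j => if l = j then (1 : F) else 0) = Pi.single l 1 from funext fun j => by simp [Pi.single_apply, eq_comm]]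
        rfl
      show Hf (∑ l, frob hF (c l) • (b l : Fin n → F)) y = 0
      rw [← h_swap hF]
      show frob hF (M _) = 0
      rw [h0, map_zero]
    have hc : ∀ l, c l = 0 := fun l => by
      have h1 := Fintype.linearIndependent_iff.mp (b.linearIndependent.map' W.subtype (Submodule.ker_subtype W)) _ hz l
      exact (map_eq_zero _).mp h1
    apply hφe
    rw [LinearMap.pi_apply_eq_sum_univ φ e]
    refine Finset.sum_eq_zero fun l _ => ?_
    rw [show (fun j => if l = j then (1 : F) else 0) = Pi.single l 1 from funext fun j => by simp [Pi.single_apply, eq_comm]]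
    show e l • c l = 0
    rw [hc, smul_zero]
  have h1 := LinearMap.finrank_range_add_finrank_ker L
  rw [hsurj, finrank_top, Module.finrank_fin_fun, Module.finrank_fin_fun] at h1
  have h2 : W ≤ LinearMap.ker L := fun w hw => funext fun l => hW w hw _ (b l).2
  have := Submodule.finrank_mono h2
  omega

variable {p : ℕ} [Fact p.Prime] [CharP F p]

/-- Every involution is conjugate into the stabiliser. -/
theorem involution_mem (hF : Fintype.card F = q ^ 2) {D : Fin 2 → Submodule F (Fin n → F)}
    (hD : Cfsg.Geo.IsMDecomposition d D) (hn : n = 2 * d)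
    (hts : ∀ i, Cfsg.Geo.IsTotallySingularFor (Cfsg.hermForm n F q) (D i)) (hqodd : Odd q) (hp : p ≠ 2) (hpq : p ∣ q)
    (hv : padicValNat 2 (q + 1) ≤ padicValNat 2 n) (x : GL (Fin n) F)
    (hx : x ∈ Cfsg.GU n F q ⊓ Cfsg.Geo.specialLinear (Fin n) F) {z : F}
    (hz : ((x ^ 2 : GL (Fin n) F) : Matrix (Fin n) (Fin n) F) = z • 1) :
    ∃ g ∈ Cfsg.GU n F q ⊓ Cfsg.Geo.specialLinear (Fin n) F, g⁻¹ * x * g ∈ Cfsg.Geo.decompositionStabilizer D := by
  classical
  have hd := hD.pos
  obtain ⟨C, hC, hgram⟩ := exists_dual_basis hF (pair_of_decomposition (hD := hD) hn hts)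
  have hdetx : (x : Matrix (Fin n) (Fin n) F).det = 1 := congrArg Units.val hx.2
  have hne : Nonempty (Fin n) := ⟨⟨0, by omega⟩⟩
  have hz0 : z ≠ 0 := by
    rintro rfl
    rw [zero_smul] at hz
    exact (x ^ 2).ne_zero hz
  have hzq : z ^ (q + 1) = 1 := by
    have h2 := hdetx
    have hx2 : ∀ u v, Hf (((x ^ 2 : GL (Fin n) F) : Matrix (Fin n) (Fin n) F) *ᵥ u)
        (((x ^ 2 : GL (Fin n) F) : Matrix (Fin n) (Fin n) F) *ᵥ v) = Hf u v := fun u v => (pow_mem hx.1 2) u v
    have h3 := hx2 (C (Sum.inl ⟨0, hd⟩)) (C (Sum.inr ⟨0, hd⟩))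
    rw [hz, Matrix.smul_mulVec, Matrix.smul_mulVec, Matrix.one_mulVec, Matrix.one_mulVec, h_smul_left,
      h_smul_right hF, hgram] at h3
    simp only [Matrix.fromBlocks_apply₁₂, Matrix.one_apply_eq, mul_one] at h3
    rw [pow_succ', ← frob_apply hF]
    exact h3
  have h20 : (2 : F) ≠ 0 := fun h => CfsgLib.GLClassNumber.natCast_ne_zero_of_prime_ne (F := F) (p := p) Nat.prime_two hp.symm
    (by exact_mod_cast h)
  obtain ⟨s, hs⟩ : IsSquare z := by
    rw [FiniteField.isSquare_iff (fun h => hp (by rw [← ringChar.eq F p]; exact h)) hz0, hF]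
    obtain ⟨k, hk⟩ := hqodd
    rw [show q ^ 2 / 2 = (q + 1) * k by
      subst hk
      rw [show (2 * k + 1) ^ 2 = 2 * ((2 * k + 1 + 1) * k) + 1 by ring]
      omega, pow_mul, hzq, one_pow]
  have hs0 : s ≠ 0 := fun h => hz0 (by simp [hs, h])
  set T := Matrix.toLin' (x : Matrix (Fin n) (Fin n) F) with hTdef
  have hT2 : ∀ v, T (T v) = z • v := fun v => by
    rw [hTdef, Matrix.toLin'_apply, Matrix.toLin'_apply, Matrix.mulVec_mulVec, ← pow_two, ← Units.val_pow_eq_pow_val, hz,
      Matrix.smul_mulVec, Matrix.one_mulVec]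
  set K1 := LinearMap.ker (T - s • (1 : Module.End F (Fin n → F)))
  set K2 := LinearMap.ker (T - (-s) • (1 : Module.End F (Fin n → F)))
  have h2s : (2 : F) * s ≠ 0 := mul_ne_zero h20 hs0
  have hcompl : IsCompl K1 K2 := by
    refine IsCompl.of_eq ((Submodule.eq_bot_iff _).mpr fun v hv => ?_) (eq_top_iff.mpr fun v _ => ?_)
    · have h1 : T v = s • v := sub_eq_zero.mp hv.1
      have h2 : T v = (-s) • v := sub_eq_zero.mp hv.2
      have h3 : (2 * s) • v = 0 := by rw [mul_smul, two_smul]; nth_rw 2 [← h1]; rw [h2, neg_smul]; module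
      exact (smul_eq_zero.mp h3).resolve_left h2s
    · rw [show v = (2 * s)⁻¹ • (s • v + T v) + (2 * s)⁻¹ • (s • v - T v) by
        rw [← smul_add, add_add_sub_cancel, ← two_smul F (s • v), smul_smul, smul_smul,
          mul_assoc, inv_mul_cancel₀ h2s, one_smul]]
      refine Submodule.add_mem_sup ?_ ?_
      · show T _ - s • _ = 0
        rw [map_smul, map_add, map_smul, hT2, Module.End.one_apply, smul_comm s]
        rw [← smul_sub, smul_add, smul_smul, ← hs]
        module
      · show T _ - (-s) • _ = 0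
        rw [map_smul, map_sub, map_smul, hT2, Module.End.one_apply, smul_comm (-s)]
        rw [← smul_sub, smul_sub (-s), smul_smul, neg_mul, ← hs]
        module
  set k1 := finrank F K1 with hk1
  set k2 := finrank F K2 with hk2
  have hksum : k1 + k2 = n := by
    have := Submodule.finrank_add_eq_of_isCompl hcompl
    rw [Module.finrank_fin_fun] at this
    exact this
  let B0 : Basis (Fin k1 ⊕ Fin k2) F (Fin n → F) :=
    ((Module.finBasis F K1).prod (Module.finBasis F K2)).map (Submodule.prodEquivOfIsCompl K1 K2 hcompl)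
  let w : Fin k1 ⊕ Fin k2 → F := Sum.elim (fun _ => s) (fun _ => -s)
  have hB0 : ∀ i, T (B0 i) = w i • B0 i := by
    rintro (i | i)
    · simpa [B0, w] using sub_eq_zero.mp (Module.finBasis F K1 i).2
    · simpa [B0, w] using sub_eq_zero.mp (Module.finBasis F K2 i).2
  have hcp : (x : Matrix (Fin n) (Fin n) F).charpoly =
      (Polynomial.X - Polynomial.C s) ^ k1 * (Polynomial.X - Polynomial.C (-s)) ^ k2 := by
    rw [← Matrix.charpoly_toLin', ← LinearMap.charpoly_toMatrix _ B0, ← hTdef, TensorElusive.toMatrix_diag' B0 T w hB0,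
      Matrix.charpoly_diagonal, Fintype.prod_sum_type]
    simp [w]
  have hdetk : s ^ k1 * (-s) ^ k2 = 1 := by
    rw [← hdetx, ← LinearMap.det_toLin', ← LinearMap.det_toMatrix B0, ← hTdef, TensorElusive.toMatrix_diag' B0 T w hB0,
      Matrix.det_diagonal, Fintype.prod_sum_type]
    simp [w]
  have hsq : s ^ (q + 1) = 1 ∨ s ^ (q + 1) = -1 := by
    refine sq_eq_one_iff.mp ?_
    rw [← pow_mul, mul_comm, pow_mul, pow_two, ← hs, hzq]
  suffices ∃ A : GL (Fin d) F, A ^ (2 * (q + 1)) = 1 ∧
      (lev hF C A : Matrix (Fin n) (Fin n) F).charpoly = (x : Matrix (Fin n) (Fin n) F).charpoly by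
    obtain ⟨A, hA, hAc⟩ := this
    have hdetA : (lev hF C A : Matrix (Fin n) (Fin n) F).det = 1 := by
      rw [Matrix.det_eq_sign_charpoly_coeff, hAc, ← Matrix.det_eq_sign_charpoly_coeff, hdetx]
    let x₀ : Cfsg.SU n F q := ⟨⟨(x : Matrix (Fin n) (Fin n) F), hdetx⟩, hx.1⟩
    let y₀ : Cfsg.SU n F q := ⟨⟨(lev hF C A : Matrix (Fin n) (Fin n) F), hdetA⟩, lev_mem_GU hF C hgram A⟩
    have hcop : (2 * (q + 1)).Coprime p := by
      refine Nat.Coprime.symm ((Fact.out : p.Prime).coprime_iff_not_dvd.mpr fun h => ?_)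
      rcases (Fact.out : p.Prime).dvd_mul.mp h with h1 | h1
      · exact hp ((Nat.prime_dvd_prime_iff_eq Fact.out Nat.prime_two).mp h1)
      · exact (Fact.out : p.Prime).not_dvd_one ((Nat.dvd_add_right hpq).mp h1)
    have hox : x₀ ^ (2 * (q + 1)) = 1 := by
      refine Subtype.ext (Subtype.ext ?_)
      rw [SubmonoidClass.coe_pow, Matrix.SpecialLinearGroup.coe_pow]
      show (x : Matrix (Fin n) (Fin n) F) ^ (2 * (q + 1)) = 1
      rw [pow_mul, ← Units.val_pow_eq_pow_val x 2, hz, _root_.smul_pow, one_pow, hzq, one_smul]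
    have hoy : y₀ ^ (2 * (q + 1)) = 1 := by
      refine Subtype.ext (Subtype.ext ?_)
      rw [SubmonoidClass.coe_pow, Matrix.SpecialLinearGroup.coe_pow]
      show (lev hF C A : Matrix (Fin n) (Fin n) F) ^ (2 * (q + 1)) = 1
      rw [← Units.val_pow_eq_pow_val, ← map_pow, hA, map_one, Units.val_one]
    obtain ⟨c, hc⟩ := isConj_iff.mp (SemisimpleUnitary.su_isConj hF (p := p) (g := x₀) (h := y₀)
      (Nat.Coprime.coprime_dvd_left (orderOf_dvd_of_pow_eq_one hox) hcop)
      (Nat.Coprime.coprime_dvd_left (orderOf_dvd_of_pow_eq_one hoy) hcop) hAc.symm)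
    let γ : Cfsg.SU n F q →* GL (Fin n) F := Matrix.SpecialLinearGroup.toGL.comp (Cfsg.SU n F q).subtype
    refine ⟨γ c⁻¹, ⟨(c⁻¹).2, Units.ext (c⁻¹).1.2⟩, ?_⟩
    have h1 : (γ c⁻¹)⁻¹ * x * γ c⁻¹ = lev hF C A := by
      rw [show x = γ x₀ from Units.ext rfl, ← map_inv, inv_inv, ← map_mul, ← map_mul, hc]
      exact Units.ext rfl
    rw [h1]
    exact lev_mem_stab hF C hD hC A
  rcases hsq with hε | hε
  · have hk2 : Even k2 := by
      by_contra hodd'
      rw [Nat.not_even_iff_odd] at hodd'
      rw [hodd'.neg_pow, mul_neg, ← pow_add, hksum, neg_eq_iff_eq_neg] at hdetk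
      obtain ⟨o, ho⟩ := pow_padicValNat_dvd (p := 2) (n := q + 1)
      obtain ⟨m, hm⟩ := (pow_dvd_pow 2 hv).trans (pow_padicValNat_dvd (p := 2) (n := n))
      have hoo : Odd o := by
        rw [← Nat.not_even_iff_odd, even_iff_two_dvd]
        intro h2o
        refine pow_succ_padicValNat_not_dvd (p := 2) (n := q + 1) (by omega) ?_
        conv_rhs => rw [ho]
        rw [pow_succ]
        exact Nat.mul_dvd_mul_left _ h2o
      have h4 : (s ^ n) ^ o = 1 := by
        rw [hm, ← pow_mul, show 2 ^ padicValNat 2 (q + 1) * m * o = (q + 1) * m by rw [mul_right_comm, ← ho],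
          pow_mul, hε, one_pow]
      rw [hdetk, hoo.neg_one_pow] at h4
      exact h20 (by linear_combination -h4)
    have hk1 : Even k1 := by
      rcases hk2 with ⟨c, hc⟩
      exact ⟨d - c, by omega⟩
    obtain ⟨a1, ha1⟩ := hk1
    obtain ⟨a2, ha2⟩ := hk2
    let E : Fin d ≃ Fin a1 ⊕ Fin a2 := (finCongr (by omega : d = a1 + a2)).trans finSumFinEquiv.symm
    let v : Fin d → F := fun j => Sum.elim (fun _ => s) (fun _ => -s) (E j)
    have hv0 : ∀ j, v j ≠ 0 := fun j => by simp only [v]; rcases E j <;> simp [hs0]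
    have hv1 : ∀ j, v j ^ (q + 1) = 1 := fun j => by
      simp only [v]
      rcases E j
      · exact hε
      · show (-s) ^ (q + 1) = 1
        rw [hqodd.add_one.neg_pow, hε]
    let A : GL (Fin d) F := ⟨Matrix.diagonal v, Matrix.diagonal fun j => (v j)⁻¹,
      by simp [Matrix.diagonal_mul_diagonal, hv0], by simp [Matrix.diagonal_mul_diagonal, hv0]⟩
    have hAs : starInv hF A = Matrix.diagonal v := by
      show ((Matrix.diagonal fun j => (v j)⁻¹).map (frob hF))ᵀ = _
      rw [Matrix.diagonal_map (map_zero _), Matrix.diagonal_transpose]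
      congr 1
      funext j
      rw [map_inv₀, frob_apply hF]
      refine inv_eq_of_mul_eq_one_left ?_
      rw [← pow_succ', hv1]
    refine ⟨A, Units.ext ?_, ?_⟩
    · rw [Units.val_pow_eq_pow_val, Units.val_one]
      show (Matrix.diagonal v) ^ (2 * (q + 1)) = 1
      rw [Matrix.diagonal_pow, ← Matrix.diagonal_one]
      congr 1
      funext j
      rw [Pi.pow_apply, mul_comm, pow_mul, hv1, one_pow]
    · rw [lev_charpoly, hAs, hcp]
      show (Matrix.diagonal v).charpoly * _ = _
      rw [Matrix.charpoly_diagonal, ← E.symm.prod_comp, Fintype.prod_sum_type]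
      simp only [v, Equiv.apply_symm_apply, Sum.elim_inl, Sum.elim_inr, Finset.prod_const, Finset.card_univ, Fintype.card_fin]
      rw [ha1, ha2, pow_add, pow_add]
      ring
  · have hiso : ∀ t : F, t ^ (q + 1) = -1 → 2 * finrank F (LinearMap.ker (T - t • (1 : Module.End F (Fin n → F)))) ≤ n := by
      refine fun t ht => isotropic_le hF _ fun u hu v hv => ?_
      have hu' : (x : Matrix (Fin n) (Fin n) F) *ᵥ u = t • u := sub_eq_zero.mp hu
      have hv' : (x : Matrix (Fin n) (Fin n) F) *ᵥ v = t • v := sub_eq_zero.mp hv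
      have h1 : Hf ((x : Matrix (Fin n) (Fin n) F) *ᵥ u) ((x : Matrix (Fin n) (Fin n) F) *ᵥ v) = Hf u v := hx.1 u v
      rw [hu', hv', h_smul_left, h_smul_right hF, ← mul_assoc, frob_apply hF, ← pow_succ', ht] at h1
      exact (mul_eq_zero.mp (show 2 * Hf u v = 0 by linear_combination -h1)).resolve_left h20
    have h1 := hiso s hε
    have h2 := hiso (-s) (by rw [hqodd.add_one.neg_pow, hε])
    change 2 * k1 ≤ n at h1
    change 2 * k2 ≤ n at h2
    let A : GL (Fin d) F := ⟨Matrix.diagonal fun _ => s, Matrix.diagonal fun _ => s⁻¹,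
      by simp [Matrix.diagonal_mul_diagonal, hs0], by simp [Matrix.diagonal_mul_diagonal, hs0]⟩
    have hAs : starInv hF A = Matrix.diagonal fun _ => -s := by
      show ((Matrix.diagonal fun _ : Fin d => s⁻¹).map (frob hF))ᵀ = _
      rw [Matrix.diagonal_map (map_zero _), Matrix.diagonal_transpose]
      congr 1
      funext j
      rw [map_inv₀, frob_apply hF]
      refine inv_eq_of_mul_eq_one_left ?_
      rw [neg_mul, ← pow_succ', hε, neg_neg]
    refine ⟨A, Units.ext ?_, ?_⟩
    · rw [Units.val_pow_eq_pow_val, Units.val_one]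
      show (Matrix.diagonal fun _ : Fin d => s) ^ (2 * (q + 1)) = 1
      rw [Matrix.diagonal_pow, ← Matrix.diagonal_one]
      congr 1
      funext j
      rw [Pi.pow_apply, mul_comm, pow_mul, hε, neg_one_sq]
    · rw [lev_charpoly, hAs, hcp]
      show (Matrix.diagonal fun _ : Fin d => s).charpoly * _ = _
      rw [Matrix.charpoly_diagonal, Matrix.charpoly_diagonal, show k1 = d by omega, show k2 = d by omega]
      simp

end CfsgLib.PairElusive
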